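import Groth.Agent.P1Rigid.Translate
import Groth.Agent.S4440
import Groth.Agent.GrpSchLib.SmoothRegular
import Groth.Agent.CurveCohLib.SubBundle
import Mathlib.RingTheory.KrullDimension.Polynomial

/-! Morphisms from the affine line to a proper group scheme over a field are constant. -/

set_option autoImplicit false
set_option backward.isDefEq.respectTransparency false
set_option linter.style.haveILetI false

universe u

open CategoryTheory Limits AlgebraicGeometry MonoidalCategory CartesianMonoidalCategory Polynomial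

namespace Groth.Agent.LineConst

variable (L : Type u) [Field L]

theorem smooth_toBase :
    Smooth (CohB1.ProjSpaceOver.toBase 1 (Spec (CommRingCat.of L))) := by
  let 𝒰 : (CohB1.ProjSpaceOver 1 (Spec (CommRingCat.of L))).OpenCover :=
    Scheme.Cover.mkOfCovers (Fin (1 + 1)) _ (H23.P1Charts.chart L)
      (fun x => by obtain ⟨i, y, hy⟩ := H23.P1Charts.exists_chart L x; exact ⟨i, y, hy⟩)
      (fun _ => inferInstance)
  refine IsZariskiLocalAtSource.of_openCover (P := @Smooth) 𝒰 fun i => ?_
  show Smooth (H23.P1Charts.chart L i ≫ _)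
  rw [H23.P1Charts.chart_toBase]
  exact (HasRingHomProperty.Spec_iff (P := @Smooth)).mpr
    (RingHom.smooth_algebraMap.mpr { formallySmooth := inferInstance, finitePresentation := inferInstance })

theorem ringKrullDim_stalk_le_one (y : CohB1.ProjSpaceOver 1 (Spec (CommRingCat.of L))) :
    ringKrullDim ((CohB1.ProjSpaceOver 1 (Spec (CommRingCat.of L))).presheaf.stalk y) ≤ 1 := by
  obtain ⟨i, p, rfl⟩ := H23.P1Charts.exists_chart L y
  have e := RingEquiv.ringKrullDim
    (asIso ((H23.P1Charts.chart L i).stalkMap p)).commRingCatIsoToRingEquiv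
  rw [e]
  refine (CurveCohLib.ringKrullDim_stalk_le_topologicalKrullDim p).trans ?_
  change topologicalKrullDim (PrimeSpectrum L[X]) ≤ 1
  rw [PrimeSpectrum.topologicalKrullDim_eq_ringKrullDim, Polynomial.ringKrullDim_of_isNoetherianRing,
    ringKrullDim_eq_zero_of_field, zero_add]

/-- A morphism from the affine line to a proper group scheme is its value at any point. -/
theorem proper_const (G : Over (Spec (CommRingCat.of L))) [GrpObj G] [IsProper G.hom]
    (f : Spec (CommRingCat.of L[X]) ⟶ G.left)
    (hf : f ≫ G.hom = Spec.map (CommRingCat.ofHom Polynomial.C)) (a : L) :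
    f = Spec.map (CommRingCat.ofHom Polynomial.C) ≫
      Spec.map (CommRingCat.ofHom (Polynomial.evalRingHom a)) ≫ f := by
  let Y := CohB1.ProjSpaceOver 1 (Spec (CommRingCat.of L))
  let q := CohB1.ProjSpaceOver.toBase 1 (Spec (CommRingCat.of L))
  let c := H23.P1Charts.chart L 0
  haveI : Smooth q := smooth_toBase L
  haveI : IsLocallyNoetherian Y := LocallyOfFiniteType.isLocallyNoetherian q
  haveI : IsIntegral Y := inferInstanceAs (IsIntegral (CohB1.ProjSpaceOver 1 (Spec (CommRingCat.of L))))
  let V := c.opensRange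
  have hV : Dense (V : Set Y) := V.2.dense ⟨_, Classical.arbitrary (PrimeSpectrum L[X]), rfl⟩
  let g : (V : Scheme.{u}) ⟶ G.left := c.isoOpensRange.inv ≫ f
  have hc : c.isoOpensRange.inv ≫ c = V.ι := by
    rw [Iso.inv_comp_eq]
    exact (Scheme.Hom.isoOpensRange_hom_ι c).symm
  have hg : g ≫ G.hom = V.ι ≫ q := by
    rw [← hc, Category.assoc, Category.assoc, hf]
    exact congrArg _ (H23.P1Charts.chart_toBase L 0).symm
  obtain ⟨U, hVU, g', hg', hres, hU⟩ := S4440.result G.hom q
    (fun y _ => GrpSchLib.isRegularLocalRing_stalk_of_smooth q y) V hV g hg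
  obtain rfl : U = ⊤ := top_unique fun y _ => hU y (ringKrullDim_stalk_le_one L y)
  let φ : Over.mk q ⟶ G := Over.homMk (Y.topIso.inv ≫ g') (by
    show (Y.topIso.inv ≫ g') ≫ G.hom = q
    rw [Category.assoc, hg', ← Category.assoc]
    exact (congrArg (· ≫ q) Y.topIso.inv_hom_id).trans (Category.id_comp q))
  have hfφ : c ≫ φ.left = f := by
    have h1 : c = c.isoOpensRange.hom ≫ Y.homOfLE hVU ≫ (⊤ : Y.Opens).ι := by
      rw [Scheme.homOfLE_ι]
      exact (Scheme.Hom.isoOpensRange_hom_ι c).symm
    show c ≫ Y.topIso.inv ≫ g' = f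
    calc c ≫ Y.topIso.inv ≫ g'
        = (c.isoOpensRange.hom ≫ Y.homOfLE hVU ≫ (⊤ : Y.Opens).ι) ≫ Y.topIso.inv ≫ g' :=
          congrArg (· ≫ Y.topIso.inv ≫ g') h1
      _ = c.isoOpensRange.hom ≫ Y.homOfLE hVU ≫ g' := by
          have h2 : (⊤ : Y.Opens).ι ≫ Y.topIso.inv = 𝟙 _ := Y.topIso.hom_inv_id
          simp only [Category.assoc]
          rw [reassoc_of% h2]
      _ = f := by rw [hres]; exact Iso.hom_inv_id_assoc _ _
  have hconst := P1Rigid.eq_const G φ
  have hfc : f = Spec.map (CommRingCat.ofHom Polynomial.C) ≫ P1.sect _ 0 ≫ φ.left := by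
    conv_lhs => rw [← hfφ, hconst, ← Category.assoc c, H23.P1Charts.chart_toBase]
  have he : Spec.map (CommRingCat.ofHom (Polynomial.evalRingHom a)) ≫
      Spec.map (CommRingCat.ofHom (Polynomial.C : L →+* L[X])) = 𝟙 _ := by
    rw [← Spec.map_comp, ← CommRingCat.ofHom_comp,
      show (Polynomial.evalRingHom a).comp Polynomial.C = RingHom.id L from RingHom.ext fun r => by simp,
      CommRingCat.ofHom_id, Spec.map_id]
  conv_rhs => rw [hfc, reassoc_of% he]
  exact hfc

end Groth.Agent.LineConst
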