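import Groth.Agent.LineConst.SemiAb
import Groth.Agent.GrpSchLib.IsogenyFibre

/-! Morphisms from a product with affine space to a semiabelian-by-discrete group factor through the projection. -/

set_option autoImplicit false
set_option backward.isDefEq.respectTransparency false
set_option linter.style.haveILetI false

universe u

open CategoryTheory Limits AlgebraicGeometry MonoidalCategory CartesianMonoidalCategory
open scoped MonObj

attribute [-instance] CategoryTheory.catToReflQuiver

namespace Groth.Agent.LineConst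

variable {k : Type u} [Field k] (n : ℕ)

/-- affine space -/
noncomputable abbrev aff (k : Type u) [Field k] (n : ℕ) : Over (Spec (CommRingCat.of k)) :=
  Over.mk (Spec.map (CommRingCat.ofHom (algebraMap k (MvPolynomial (Fin n) k))))

/-- the origin -/
noncomputable def origin (k : Type u) [Field k] (n : ℕ) : 𝟙_ (Over (Spec (CommRingCat.of k))) ⟶ aff k n :=
  Over.homMk (Spec.map (CommRingCat.ofHom (MvPolynomial.eval (fun _ => (0 : k))))) (by
    show Spec.map _ ≫ Spec.map _ = 𝟙 _
    rw [← Spec.map_comp, ← CommRingCat.ofHom_comp,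
      show (MvPolynomial.eval (fun _ : Fin n => (0 : k))).comp (algebraMap k _) = RingHom.id k from
        RingHom.ext fun r => by simp, CommRingCat.ofHom_id, Spec.map_id])

theorem factor (X : Over (Spec (CommRingCat.of k))) [AlgebraicGeometry.IsReduced X.left]
    [LocallyOfFiniteType X.hom] {G G0 T A : Over (Spec (CommRingCat.of k))} [GrpObj G] [GrpObj G0] [GrpObj T]
    [GrpObj A] [IsProper A.hom] (e : G0 ⟶ G) [IsMonHom e] [IsOpenImmersion e.left] (i : T ⟶ G0)
    [IsClosedImmersion i.left] (hT : Red.IsTorus T) (q : G0 ⟶ A) [IsMonHom q] (hker : AlgGrp.IsKernel i q)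
    (φ : X ⊗ aff k n ⟶ G) :
    φ = fst X (aff k n) ≫ lift (𝟙 X) (toUnit X ≫ origin k n) ≫ φ := by
  haveI : IsSeparated G.hom := GrpSchLib.CharZeroPts.isSeparated_grp G
  haveI : IsLocallyNoetherian X.left := LocallyOfFiniteType.isLocallyNoetherian X.hom
  haveI : Smooth (aff k n).hom := (HasRingHomProperty.Spec_iff (P := @Smooth)).mpr
    (RingHom.smooth_algebraMap.mpr { formallySmooth := inferInstance, finitePresentation := inferInstance })
  haveI : GeometricallyReduced (aff k n).hom := Groth.Agent.GrpSchLib.IsogenyFibre.geometricallyReduced_of_smooth' (aff k n).hom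
  haveI : AlgebraicGeometry.IsReduced (X ⊗ aff k n).left :=
    inferInstanceAs (AlgebraicGeometry.IsReduced (pullback X.hom (aff k n).hom))
  apply Over.OverMorphism.ext
  refine ext_of_fromSpecResidueField_eq _ _ G.hom Set.univ dense_univ (fun x _ => ?_)
    ((Over.w φ).trans (Over.w _).symm)
  let K := (X ⊗ aff k n).left.residueField x
  let pt : Spec K ⟶ (X ⊗ aff k n).left := (X ⊗ aff k n).left.fromSpecResidueField x
  let σ : k →+* K := (Spec.preimage (pt ≫ (X ⊗ aff k n).hom)).hom
  have hσ : pt ≫ (X ⊗ aff k n).hom = Spec.map (CommRingCat.ofHom σ) := (Spec.map_preimage _).symm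
  let pO : pnt (L := K) σ ⟶ X ⊗ aff k n := Over.homMk pt hσ
  let b : MvPolynomial (Fin n) k →+* K := (Spec.preimage ((pO ≫ snd _ _).left)).hom
  have hb : Spec.map (CommRingCat.ofHom b) = (pO ≫ snd _ _).left := Spec.map_preimage _
  have hbσ : b.comp (algebraMap k _) = σ := by
    have h := Over.w (pO ≫ snd X (aff k n))
    rw [← hb] at h
    have h' : Spec.map (CommRingCat.ofHom (b.comp (algebraMap k _))) = Spec.map (CommRingCat.ofHom σ) := by
      rw [CommRingCat.ofHom_comp, Spec.map_comp]; exact h
    exact congrArg CommRingCat.Hom.hom (Spec.map_injective h')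
  let gam : MvPolynomial (Fin n) k →+* Polynomial K :=
    MvPolynomial.eval₂Hom (Polynomial.C.comp σ) (fun j => Polynomial.X * Polynomial.C (b (MvPolynomial.X j)))
  let ℓ : line (L := K) σ ⟶ aff k n := Over.homMk (Spec.map (CommRingCat.ofHom gam)) (by
    show Spec.map _ ≫ Spec.map _ = Spec.map _
    rw [← Spec.map_comp, ← CommRingCat.ofHom_comp]
    congr 2
    exact RingHom.ext fun r => by simp [gam])
  let m : line (L := K) σ ⟶ X ⊗ aff k n := lift (prj σ ≫ pO ≫ fst _ _) ℓ
  have hev : ∀ c : K, evO σ c ≫ m = lift (pO ≫ fst _ _) (evO σ c ≫ ℓ) := fun c => by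
    rw [comp_lift, ← Category.assoc, evO_prj, Category.id_comp]
  have hl1 : evO σ 1 ≫ ℓ = pO ≫ snd _ _ := by
    apply Over.OverMorphism.ext
    show Spec.map _ ≫ Spec.map _ = _
    rw [← hb, ← Spec.map_comp, ← CommRingCat.ofHom_comp]
    congr 2
    refine MvPolynomial.ringHom_ext (fun r => ?_) fun j => ?_
    · refine Eq.trans ?_ (RingHom.congr_fun hbσ r).symm
      simp [gam]
    · simp [gam]
  have hl0 : evO σ 0 ≫ ℓ = toUnit _ ≫ origin k n := by
    apply Over.OverMorphism.ext
    show Spec.map _ ≫ Spec.map _ = Spec.map _ ≫ Spec.map _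
    rw [← Spec.map_comp, ← Spec.map_comp, ← CommRingCat.ofHom_comp, ← CommRingCat.ofHom_comp]
    congr 2
    refine MvPolynomial.ringHom_ext (fun r => ?_) fun j => ?_
    · simp [gam]
    · simp [gam]
  have key := eval_eq σ e i hT q hker (m ≫ φ) 1 0
  rw [← Category.assoc, ← Category.assoc, hev, hev, hl1, hl0, ← comp_lift, lift_fst_snd, Category.comp_id] at key
  have key2 : pO ≫ φ = pO ≫ fst X (aff k n) ≫ lift (𝟙 X) (toUnit X ≫ origin k n) ≫ φ := by
    rw [key, ← Category.assoc, ← Category.assoc, comp_lift, Category.comp_id, ← Category.assoc,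
      toUnit_unique ((pO ≫ fst X (aff k n)) ≫ toUnit X) (toUnit _)]
  exact congrArg CommaMorphism.left key2

end Groth.Agent.LineConst
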