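import Groth.Agent.LineConst.Proper
import Groth.Agent.GrpSchLib.CharZeroPts
import Groth.Agent.GrpSchLib.FieldSubgroup
import Groth.Prelude.Def_Red
import Groth.Prelude.Def_AlgGrp

/-! Morphisms from the affine line to an extension of a proper group by a torus are constant. -/

set_option autoImplicit false
set_option backward.isDefEq.respectTransparency false
set_option linter.style.haveILetI false
set_option linter.unusedSectionVars false

universe u

open CategoryTheory Limits AlgebraicGeometry MonoidalCategory CartesianMonoidalCategory Polynomial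
open scoped MonObj

attribute [-instance] CategoryTheory.catToReflQuiver

namespace Groth.Agent.LineConst

variable {k L : Type u} [Field k] [Field L] (σ : k →+* L)

/-- a point with values in `L` -/
noncomputable abbrev pnt : Over (Spec (CommRingCat.of k)) := Over.mk (Spec.map (CommRingCat.ofHom σ))

/-- the line over `L`, seen over `k` -/
noncomputable abbrev line : Over (Spec (CommRingCat.of k)) :=
  Over.mk (Spec.map (CommRingCat.ofHom ((Polynomial.C).comp σ)))

/-- evaluation at a point of the line -/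
noncomputable def evO (a : L) : pnt σ ⟶ line σ :=
  Over.homMk (Spec.map (CommRingCat.ofHom (Polynomial.evalRingHom a))) (by
    show Spec.map _ ≫ Spec.map _ = Spec.map _
    rw [← Spec.map_comp, ← CommRingCat.ofHom_comp]
    congr 2
    exact RingHom.ext fun r => by simp)

/-- the structure map of the line -/
noncomputable def prj : line σ ⟶ pnt σ :=
  Over.homMk (Spec.map (CommRingCat.ofHom Polynomial.C)) (by
    show Spec.map _ ≫ Spec.map _ = Spec.map _
    rw [← Spec.map_comp, ← CommRingCat.ofHom_comp])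

theorem evO_prj (a : L) : evO σ a ≫ prj σ = 𝟙 _ := by
  apply Over.OverMorphism.ext
  show Spec.map _ ≫ Spec.map _ = 𝟙 _
  rw [← Spec.map_comp, ← CommRingCat.ofHom_comp,
    show (Polynomial.evalRingHom a).comp Polynomial.C = RingHom.id L from RingHom.ext fun r => by simp,
    CommRingCat.ofHom_id, Spec.map_id]

/-- The proper part. -/
theorem proper_eq (A : Over (Spec (CommRingCat.of k))) [GrpObj A] [IsProper A.hom] (j : line σ ⟶ A) (a : L) :
    j = prj σ ≫ evO σ a ≫ j := by
  let φ := Spec.map (CommRingCat.ofHom σ)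
  haveI : IsProper (Red.bc φ A).hom := inferInstanceAs (IsProper (pullback.snd A.hom φ))
  let h : Spec (CommRingCat.of L[X]) ⟶ (Red.bc φ A).left :=
    pullback.lift j.left (Spec.map (CommRingCat.ofHom Polynomial.C)) (by
      rw [Over.w j]
      show Spec.map _ = Spec.map _ ≫ Spec.map _
      rw [← Spec.map_comp, ← CommRingCat.ofHom_comp])
  have hh := proper_const L (Red.bc φ A) h (pullback.lift_snd _ _ _) a
  have hfst : h ≫ pullback.fst A.hom φ = j.left := pullback.lift_fst _ _ _
  apply Over.OverMorphism.ext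
  calc j.left = h ≫ pullback.fst A.hom φ := hfst.symm
    _ = (Spec.map (CommRingCat.ofHom Polynomial.C) ≫
        Spec.map (CommRingCat.ofHom (Polynomial.evalRingHom a)) ≫ h) ≫ pullback.fst A.hom φ := by rw [← hh]
    _ = Spec.map (CommRingCat.ofHom Polynomial.C) ≫
        Spec.map (CommRingCat.ofHom (Polynomial.evalRingHom a)) ≫ j.left := by
      rw [Category.assoc, Category.assoc, hfst]

theorem evalHom_comp {K : Type u} [CommRing K] (g : L →+* K) (c : L) :
    g.comp (Polynomial.evalRingHom c) = (Polynomial.evalRingHom (g c)).comp (Polynomial.mapRingHom g) :=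
  Polynomial.ringHom_ext (fun x => by simp) (by simp)

/-- The torus part. -/
theorem torus_eq (T : Over (Spec (CommRingCat.of k))) [GrpObj T] (hT : Red.IsTorus T) (t : line σ ⟶ T) (a b : L) :
    evO σ a ≫ t = evO σ b ≫ t := by
  obtain ⟨S', f, -, hfs, -, hloc⟩ := hT
  haveI := hfs
  haveI : IsSeparated T.hom := GrpSchLib.CharZeroPts.isSeparated_grp T
  let P := pullback (Spec.map (CommRingCat.ofHom σ)) f
  obtain ⟨z, -⟩ := (pullback.fst (Spec.map (CommRingCat.ofHom σ)) f).surjective (IsLocalRing.closedPoint L)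
  obtain ⟨U, hzU, r, ⟨e⟩⟩ := hloc (pullback.snd (Spec.map (CommRingCat.ofHom σ)) f z)
  let Kz := P.residueField z
  let α : Spec Kz ⟶ Spec (CommRingCat.of L) := P.fromSpecResidueField z ≫ pullback.fst _ _
  let β₀ : Spec Kz ⟶ S' := P.fromSpecResidueField z ≫ pullback.snd _ _
  have hβ : Set.range β₀ ⊆ Set.range U.ι := by
    rintro _ ⟨w, rfl⟩
    rw [Scheme.Opens.range_ι]
    show β₀ w ∈ U
    rw [Scheme.Hom.comp_apply, Scheme.fromSpecResidueField_apply]
    exact hzU
  let β : Spec Kz ⟶ U := IsOpenImmersion.lift U.ι β₀ hβ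
  have hαβ : α ≫ Spec.map (CommRingCat.ofHom σ) = β ≫ U.ι ≫ f := by
    rw [← Category.assoc β, IsOpenImmersion.lift_fac, Category.assoc, Category.assoc, pullback.condition]
  let a₀ : L →+* Kz := (Spec.preimage α).hom
  have hα : Spec.map (CommRingCat.ofHom a₀) = α := Spec.map_preimage α
  let αX : Spec (CommRingCat.of Kz[X]) ⟶ Spec (CommRingCat.of L[X]) :=
    Spec.map (CommRingCat.ofHom (Polynomial.mapRingHom a₀))
  let w : Spec (CommRingCat.of Kz[X]) ⟶ T.left := αX ≫ t.left
  let CKz : Spec (CommRingCat.of Kz[X]) ⟶ Spec Kz := Spec.map (CommRingCat.ofHom Polynomial.C)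
  have hcond : w ≫ T.hom = (CKz ≫ β) ≫ U.ι ≫ f := by
    rw [Category.assoc CKz, ← hαβ, Category.assoc αX, Over.w t, ← hα]
    show Spec.map _ ≫ Spec.map _ = Spec.map _ ≫ Spec.map _ ≫ Spec.map _
    rw [← Spec.map_comp, ← Spec.map_comp, ← Spec.map_comp, ← CommRingCat.ofHom_comp,
      ← CommRingCat.ofHom_comp, ← CommRingCat.ofHom_comp]
    congr 2
    exact RingHom.ext fun x => by simp
  let wU : Spec (CommRingCat.of Kz[X]) ⟶ (Red.bc (U.ι ≫ f) T).left := pullback.lift w (CKz ≫ β) hcond
  let e' : Red.bc (U.ι ≫ f) T ≅ Red.DS (U : Scheme.{u}) (Fin r → ℤ) := (Grp.forget _).mapIso e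
  let M := MonoidAlgebra (ULift.{u} ℤ) (Multiplicative (Fin r → ℤ))
  let wZ : Spec (CommRingCat.of Kz[X]) ⟶ Spec (CommRingCat.of M) :=
    wU ≫ e'.hom.left ≫ pullback.fst _ _
  let ρ : M →+* Kz[X] := (Spec.preimage wZ).hom
  have hρ : ∀ c d : Kz, (Polynomial.evalRingHom c).comp ρ = (Polynomial.evalRingHom d).comp ρ := by
    intro c d
    refine MonoidAlgebra.ringHom_ext (fun x => ?_) (fun m => ?_)
    · obtain ⟨n⟩ := x
      have hn : ∀ F : M →+* Kz, F (MonoidAlgebra.single 1 (ULift.up n)) = (n : Kz) := fun F => by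
        rw [show (MonoidAlgebra.single 1 (ULift.up n) : M) =
          (MonoidAlgebra.singleOneRingHom : ULift.{u} ℤ →+* M) (n : ULift.{u} ℤ) from rfl, map_intCast,
          map_intCast]
      rw [hn, hn]
    · have hm : IsUnit (MonoidAlgebra.single m (1 : ULift.{u} ℤ) : M) :=
        (Group.isUnit m).map (MonoidAlgebra.of (ULift.{u} ℤ) (Multiplicative (Fin r → ℤ)))
      obtain ⟨x, -, hx⟩ := Polynomial.isUnit_iff.1 (hm.map ρ)
      simp only [RingHom.comp_apply, ← hx, Polynomial.coe_evalRingHom, Polynomial.eval_C]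
  let evKz : Kz → (Spec Kz ⟶ Spec (CommRingCat.of Kz[X])) := fun c =>
    Spec.map (CommRingCat.ofHom (Polynomial.evalRingHom c))
  have hevC : ∀ c : Kz, evKz c ≫ CKz = 𝟙 _ := fun c => by
    show Spec.map _ ≫ Spec.map _ = _
    rw [← Spec.map_comp, ← CommRingCat.ofHom_comp]
    refine (congrArg Spec.map ?_).trans (Spec.map_id Kz)
    exact CommRingCat.hom_ext (RingHom.ext fun r => Polynomial.eval_C)
  have hwU : ∀ c d : Kz, evKz c ≫ wU = evKz d ≫ wU := by
    intro c d
    haveI : IsIso e'.hom.left := inferInstanceAs (IsIso ((Over.forget _).map e'.hom))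
    rw [← cancel_mono e'.hom.left]
    apply pullback.hom_ext
    · have : ∀ x, (evKz x ≫ wU) ≫ e'.hom.left ≫ pullback.fst _ _ =
          Spec.map (CommRingCat.ofHom ((Polynomial.evalRingHom x).comp ρ)) := fun x => by
        rw [CommRingCat.ofHom_comp, Spec.map_comp, show Spec.map (CommRingCat.ofHom ρ) = wZ from
          Spec.map_preimage wZ, Category.assoc]
      simp only [Category.assoc] at this ⊢
      rw [this c, this d, hρ c d]
    · have : ∀ x, evKz x ≫ wU ≫ e'.hom.left ≫ pullback.snd _ _ = β := fun x => by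
        have h1 : e'.hom.left ≫ pullback.snd _ _ = pullback.snd T.hom (U.ι ≫ f) := Over.w e'.hom
        rw [h1, pullback.lift_snd, reassoc_of% hevC]
      simp only [Category.assoc]
      rw [this c, this d]
  have key : ∀ c, α ≫ (evO σ c ≫ t).left = evKz (a₀ c) ≫ w := by
    intro c
    show α ≫ Spec.map _ ≫ t.left = Spec.map _ ≫ αX ≫ t.left
    rw [← hα, ← Category.assoc, ← Category.assoc, ← Spec.map_comp, ← Spec.map_comp,
      ← CommRingCat.ofHom_comp, ← CommRingCat.ofHom_comp]
    congr 3
    exact evalHom_comp a₀ c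
  apply Over.OverMorphism.ext
  haveI : IsDominant α := ⟨by
    have : Function.Surjective α := fun y => ⟨IsLocalRing.closedPoint Kz, Subsingleton.elim (α := PrimeSpectrum L) _ _⟩
    exact this.denseRange⟩
  haveI : AlgebraicGeometry.IsReduced (pnt σ).left :=
    inferInstanceAs (AlgebraicGeometry.IsReduced (Spec (CommRingCat.of L)))
  refine ext_of_isDominant_of_isSeparated T.hom ((Over.w (evO σ a ≫ t)).trans (Over.w (evO σ b ≫ t)).symm) α ?_
  rw [key, key]
  have hfst : wU ≫ pullback.fst T.hom (U.ι ≫ f) = w := pullback.lift_fst _ _ _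
  rw [← hfst, ← Category.assoc, ← Category.assoc, hwU]

variable {G G0 T A : Over (Spec (CommRingCat.of k))} [GrpObj G] [GrpObj G0] [GrpObj T] [GrpObj A]
  [IsProper A.hom]

/-- The value of a morphism from the line to a semiabelian-by-discrete group does not depend on the point. -/
theorem eval_eq (e : G0 ⟶ G) [IsMonHom e] [IsOpenImmersion e.left] (i : T ⟶ G0)
    (hT : Red.IsTorus T) (q : G0 ⟶ A) [IsMonHom q] [Mono i.left] (hker : AlgGrp.IsKernel i q)
    (f : line σ ⟶ G) (a b : L) : evO σ a ≫ f = evO σ b ≫ f := by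
  let c : pnt σ ⟶ G := evO σ b ≫ f
  let f' : line σ ⟶ G := f * (prj σ ≫ c)⁻¹
  have hf' : ∀ x, evO σ x ≫ f' = (evO σ x ≫ f) * c⁻¹ := fun x => by
    simp only [f', MonObj.comp_mul, GrpObj.comp_inv]
    rw [← Category.assoc, evO_prj, Category.id_comp]
  suffices h : evO σ a ≫ f' = 1 by
    rw [hf', mul_inv_eq_one] at h
    exact h
  have hb : evO σ b ≫ f' = 1 := by rw [hf', mul_inv_cancel]
  -- the neutral component is open and closed
  have hcl : IsClosed (Set.range e.left) :=
    GrpSchLib.isClosed_range_of_isLocallyClosed e e.left.isOpenEmbedding.isOpen_range.isLocallyClosed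
  have hone : (1 : pnt σ ⟶ G) = (1 : pnt σ ⟶ G0) ≫ e := (MonObj.one_comp e).symm
  have hr : Set.range f'.left ⊆ Set.range e.left := by
    rintro _ ⟨y, rfl⟩
    haveI : PreconnectedSpace (line σ).left :=
      inferInstanceAs (PreconnectedSpace (PrimeSpectrum L[X]))
    have hu : f'.left ⁻¹' Set.range e.left = Set.univ := by
      refine IsClopen.eq_univ ⟨hcl.preimage f'.left.continuous,
        e.left.isOpenEmbedding.isOpen_range.preimage f'.left.continuous⟩
        ⟨(evO σ b).left (IsLocalRing.closedPoint L), ?_⟩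
      show f'.left ((evO σ b).left _) ∈ Set.range e.left
      rw [← Scheme.Hom.comp_apply, ← Over.comp_left, hb, hone, Over.comp_left, Scheme.Hom.comp_apply]
      exact ⟨_, rfl⟩
    exact Set.eq_univ_iff_forall.1 hu y
  let g : line σ ⟶ G0 := Over.homMk (IsOpenImmersion.lift e.left f'.left hr) (by
    rw [← Over.w e, IsOpenImmersion.lift_fac_assoc, Over.w f'])
  have hg : g ≫ e = f' := Over.OverMorphism.ext (IsOpenImmersion.lift_fac _ _ _)
  haveI : Mono e := Over.mono_of_mono_left e
  haveI : Mono i := Over.mono_of_mono_left i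
  have hgb : evO σ b ≫ g = 1 := by
    rw [← cancel_mono e, Category.assoc, hg, hb, ← hone]
  have hgq : g ≫ q = toUnit _ ≫ η[A] := by
    rw [← Hom.one_def, proper_eq σ A (g ≫ q) b, ← Category.assoc (evO σ b), hgb, MonObj.one_comp,
      MonObj.comp_one]
  let t : line σ ⟶ T := hker.lift g (toUnit _) hgq
  have ht : t ≫ i = g := hker.lift_fst _ _ _
  have h1 : evO σ a ≫ g = 1 := by
    rw [← ht, ← Category.assoc, torus_eq σ T hT t a b, Category.assoc, ht, hgb]
  rw [← hg, ← Category.assoc, h1, MonObj.one_comp]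

end Groth.Agent.LineConst
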